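import Groth.Agent.Ref1.Sp
import Mathlib.AlgebraicGeometry.Morphisms.Flat

/-!
# Points specializing to a point and primes of the local ring
-/

universe u

open CategoryTheory AlgebraicGeometry TopologicalSpace Opposite

noncomputable section

namespace Groth.Agent.FlatPull

open Groth.Agent.Ref1

variable {X Y : Scheme.{u}}

/-- The prime of a generalization. -/
abbrev primeAt {z x : X} (h : z ⤳ x) : Ideal (X.presheaf.stalk x) :=
  (IsLocalRing.maximalIdeal (X.presheaf.stalk z)).comap (spR h)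

lemma mem_primeAt {z x : X} (h : z ⤳ x) (b : X.presheaf.stalk x) :
    b ∈ primeAt h ↔ ¬ IsUnit (spR h b) := IsLocalRing.mem_maximalIdeal _

/-- Every prime of the local ring comes from a generalization. -/
lemma exists_point (x : X) (P : Ideal (X.presheaf.stalk x)) [P.IsPrime] :
    ∃ (z : X) (h : z ⤳ x), primeAt h = P := by
  obtain ⟨_, ⟨U, hU, rfl⟩, hxU, -⟩ :=
    X.isBasis_affineOpens.exists_subset_of_mem_open (Set.mem_univ x) isOpen_univ
  replace hU : IsAffineOpen U := hU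
  letI := X.presheaf.algebra_section_stalk ⟨x, hxU⟩
  haveI := hU.isLocalization_stalk ⟨x, hxU⟩
  set S := (hU.primeIdealOf ⟨x, hxU⟩).asIdeal.primeCompl
  let P₀ : PrimeSpectrum Γ(X, U) := ⟨P.comap (algebraMap Γ(X, U) (X.presheaf.stalk x)), Ideal.IsPrime.comap _⟩
  let z : X := hU.fromSpec P₀
  have hzU : z ∈ U := hU.range_fromSpec.le ⟨P₀, rfl⟩
  have hle : P₀ ≤ hU.primeIdealOf ⟨x, hxU⟩ := fun c hc => by
    by_contra hcn
    exact ‹P.IsPrime›.ne_top (Ideal.eq_top_of_isUnit_mem _ hc (IsLocalization.map_units (X.presheaf.stalk x)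
      (⟨c, hcn⟩ : S)))
  have hzx : z ⤳ x := by
    have := ((PrimeSpectrum.le_iff_specializes _ _).mp hle).map hU.fromSpec.continuous
    rwa [hU.fromSpec_primeIdealOf] at this
  have hzP : hU.primeIdealOf ⟨z, hzU⟩ = P₀ := by
    apply hU.fromSpec.isOpenEmbedding.injective
    exact hU.fromSpec_primeIdealOf ⟨z, hzU⟩
  refine ⟨z, hzx, Ideal.ext fun b => ?_⟩
  obtain ⟨⟨r, s⟩, hb⟩ := IsLocalization.surj S b
  have hs : IsUnit (algebraMap Γ(X, U) (X.presheaf.stalk x) s.1) := IsLocalization.map_units _ s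
  have h1 : b ∈ P ↔ r ∈ P₀.asIdeal := by
    show b ∈ P ↔ algebraMap Γ(X, U) (X.presheaf.stalk x) r ∈ P
    rw [← hb]
    exact ⟨fun h => Ideal.mul_mem_right _ _ h, fun h => (Ideal.mul_unit_mem_iff_mem P hs).mp h⟩
  letI := X.presheaf.algebra_section_stalk ⟨z, hzU⟩
  haveI := hU.isLocalization_stalk ⟨z, hzU⟩
  have h2 : r ∈ P₀.asIdeal ↔ ¬ IsUnit (algebraMap Γ(X, U) (X.presheaf.stalk z) r) := by
    rw [IsLocalization.AtPrime.isUnit_to_map_iff (X.presheaf.stalk z) (hU.primeIdealOf ⟨z, hzU⟩).asIdeal, hzP]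
    exact not_not.symm
  rw [mem_primeAt, h1, h2]
  have h3 := congrArg (spR hzx) hb
  rw [map_mul] at h3
  have hr : spR hzx (algebraMap Γ(X, U) (X.presheaf.stalk x) r) = algebraMap Γ(X, U) (X.presheaf.stalk z) r :=
    spR_germ hzx hxU r
  rw [← hr, ← h3, IsUnit.mul_iff]
  exact not_congr ⟨fun h => ⟨h, hs.map (spR hzx)⟩, And.left⟩

/-- Elements of the local ring at a generalization are fractions. -/
lemma exists_frac {z x : X} (h : z ⤳ x) (u : X.presheaf.stalk z) :
    ∃ a s : X.presheaf.stalk x, IsUnit (spR h s) ∧ u * spR h s = spR h a := by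
  obtain ⟨_, ⟨U, hU, rfl⟩, hxU, -⟩ :=
    X.isBasis_affineOpens.exists_subset_of_mem_open (Set.mem_univ x) isOpen_univ
  replace hU : IsAffineOpen U := hU
  have hzU : z ∈ U := h.mem_open U.2 hxU
  letI := X.presheaf.algebra_section_stalk ⟨z, hzU⟩
  haveI := hU.isLocalization_stalk ⟨z, hzU⟩
  obtain ⟨⟨r, s⟩, hrs⟩ := IsLocalization.surj (hU.primeIdealOf ⟨z, hzU⟩).asIdeal.primeCompl u
  refine ⟨X.presheaf.germ U x hxU r, X.presheaf.germ U x hxU s.1, ?_, ?_⟩
  · rw [spR_germ]; exact IsLocalization.map_units _ s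
  · rw [spR_germ, spR_germ]; exact hrs

/-- Two generalizations with the same prime are equal. -/
lemma eq_of_primeAt_eq {z z' x : X} (h : z ⤳ x) (h' : z' ⤳ x) (e : primeAt h = primeAt h') : z = z' := by
  obtain ⟨_, ⟨U, hU, rfl⟩, hxU, -⟩ :=
    X.isBasis_affineOpens.exists_subset_of_mem_open (Set.mem_univ x) isOpen_univ
  replace hU : IsAffineOpen U := hU
  have hz : z ∈ U := h.mem_open U.2 hxU
  have hz' : z' ∈ U := h'.mem_open U.2 hxU
  have key : hU.primeIdealOf ⟨z, hz⟩ = hU.primeIdealOf ⟨z', hz'⟩ := by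
    refine PrimeSpectrum.ext (Ideal.ext fun r => ?_)
    have h0 := Ideal.ext_iff.mp e (X.presheaf.germ U x hxU r)
    rw [mem_primeAt, mem_primeAt, spR_germ, spR_germ] at h0
    letI := X.presheaf.algebra_section_stalk ⟨z, hz⟩
    haveI := hU.isLocalization_stalk ⟨z, hz⟩
    letI := X.presheaf.algebra_section_stalk ⟨z', hz'⟩
    haveI := hU.isLocalization_stalk ⟨z', hz'⟩
    have h1 := IsLocalization.AtPrime.isUnit_to_map_iff (X.presheaf.stalk z) (hU.primeIdealOf ⟨z, hz⟩).asIdeal r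
    have h2 := IsLocalization.AtPrime.isUnit_to_map_iff (X.presheaf.stalk z') (hU.primeIdealOf ⟨z', hz'⟩).asIdeal r
    exact not_iff_not.mp ((h1.symm.trans (not_iff_not.mp h0)).trans h2)
  have := congrArg hU.fromSpec key
  rwa [hU.fromSpec_primeIdealOf, hU.fromSpec_primeIdealOf] at this

variable (φ : X ⟶ Y)

lemma stalkMap_spR {z x : X} (h : z ⤳ x) (a : Y.presheaf.stalk (φ x)) :
    spR h (φ.stalkMap x a) = φ.stalkMap z (spR (h.map φ.continuous) a) :=
  (Scheme.Hom.stalkSpecializes_stalkMap_apply φ z x h a).symm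

lemma primeAt_map {z x : X} (h : z ⤳ x) :
    (primeAt h).comap (φ.stalkMap x).hom = primeAt (h.map φ.continuous) := by
  ext a
  rw [Ideal.mem_comap, mem_primeAt, mem_primeAt, stalkMap_spR]
  exact not_congr (isUnit_map_iff (φ.stalkMap z).hom _)

/-- Generalizations lift along flat morphisms. -/
theorem exists_lift [Flat φ] (x : X) {y : Y} (hy : y ⤳ φ x) : ∃ z, z ⤳ x ∧ φ z = y := by
  algebraize [(φ.stalkMap x).hom]
  haveI : Module.FaithfullyFlat (Y.presheaf.stalk (φ x)) (X.presheaf.stalk x) :=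
    @Module.FaithfullyFlat.of_flat_of_isLocalHom _ _ _ _ _ _ _
      (Flat.stalkMap φ x) (φ.toLRSHom.prop x)
  obtain ⟨P, hP⟩ := PrimeSpectrum.comap_surjective_of_faithfullyFlat (A := Y.presheaf.stalk (φ x))
    (B := X.presheaf.stalk x) ⟨primeAt hy, Ideal.IsPrime.comap _⟩
  obtain ⟨z, hz, hzP⟩ := exists_point x P.asIdeal
  refine ⟨z, hz, eq_of_primeAt_eq (x := φ x) (hz.map φ.continuous) hy ?_⟩
  rw [← primeAt_map φ hz, hzP]
  exact congrArg PrimeSpectrum.asIdeal hP

end Groth.Agent.FlatPull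

end
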