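import Groth.Agent.FlatPull.Core
import Groth.Agent.FlatPull.Point
import Groth.Agent.FlatMor.FibreStalk
import Groth.Agent.IdealSh.CartierInSub
import Groth.Agent.Ref1.Normal
import Groth.Agent.Ref1.Class
import Mathlib.RingTheory.Ideal.MinimalPrime.Noetherian

/-!
# Rational functions invertible on the generic fibre of a flat morphism with integral fibres
-/

universe u

open CategoryTheory AlgebraicGeometry TopologicalSpace Opposite Order

noncomputable section

namespace Groth.Agent.FlatPull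

open Groth.Agent.Ref1

variable {X Y : Scheme.{u}}

lemma spR_refl_apply (x : X) (a : X.presheaf.stalk x) : spR (specializes_refl x) a = a := by
  obtain ⟨U, hU, r, rfl⟩ := X.presheaf.exists_germ_eq (x := x) a
  rw [spR_germ]

lemma primeAt_refl (x : X) : primeAt (specializes_refl x) = IsLocalRing.maximalIdeal (X.presheaf.stalk x) := by
  ext a
  rw [mem_primeAt, spR_refl_apply, IsLocalRing.mem_maximalIdeal]
  rfl

/-- Inclusion of primes gives a specialization. -/
lemma specializes_of_primeAt_le {z z' x : X} (h : z ⤳ x) (h' : z' ⤳ x) (e : primeAt h ≤ primeAt h') : z ⤳ z' := by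
  obtain ⟨_, ⟨U, hU, rfl⟩, hxU, -⟩ :=
    X.isBasis_affineOpens.exists_subset_of_mem_open (Set.mem_univ x) isOpen_univ
  replace hU : IsAffineOpen U := hU
  have hz : z ∈ U := h.mem_open U.2 hxU
  have hz' : z' ∈ U := h'.mem_open U.2 hxU
  have key : hU.primeIdealOf ⟨z, hz⟩ ≤ hU.primeIdealOf ⟨z', hz'⟩ := by
    intro r hr
    have h0 := @e (X.presheaf.germ U x hxU r)
    rw [mem_primeAt, mem_primeAt, spR_germ, spR_germ] at h0
    letI := X.presheaf.algebra_section_stalk ⟨z, hz⟩
    haveI := hU.isLocalization_stalk ⟨z, hz⟩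
    letI := X.presheaf.algebra_section_stalk ⟨z', hz'⟩
    haveI := hU.isLocalization_stalk ⟨z', hz'⟩
    have h1 := IsLocalization.AtPrime.isUnit_to_map_iff (X.presheaf.stalk z) (hU.primeIdealOf ⟨z, hz⟩).asIdeal r
    have h2 := IsLocalization.AtPrime.isUnit_to_map_iff (X.presheaf.stalk z') (hU.primeIdealOf ⟨z', hz'⟩).asIdeal r
    by_contra hr'
    exact h0 (fun hu => (h1.mp hu) hr) (h2.mpr hr')
  have := ((PrimeSpectrum.le_iff_specializes _ _).mp key).map hU.fromSpec.continuous
  rwa [hU.fromSpec_primeIdealOf, hU.fromSpec_primeIdealOf] at this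

section Integral

variable [IsIntegral X]

lemma spR_injective {z x : X} (h : z ⤳ x) : Function.Injective (spR (X := X) h) := fun a b e => by
  refine toK_injective x ?_
  have := congrArg (toK z) e
  rwa [spR_spR, spR_spR] at this

/-- Divisibility at a generalization is divisibility up to an element invertible there. -/
lemma exists_dvd_of_dvd {z x : X} (h : z ⤳ x) {p b : X.presheaf.stalk x} (hd : spR h p ∣ spR h b) :
    ∃ t ∉ primeAt h, p ∣ t * b := by
  obtain ⟨w, hw⟩ := hd
  obtain ⟨a, s, hs, has⟩ := exists_frac h w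
  refine ⟨s, fun hm => (mem_primeAt h s).mp hm hs, a, spR_injective h ?_⟩
  rw [map_mul, map_mul, hw, ← has]
  ring

lemma dvd_of_exists_dvd {z x : X} (h : z ⤳ x) {p b : X.presheaf.stalk x}
    (hd : ∃ t ∉ primeAt h, p ∣ t * b) : spR h p ∣ spR h b := by
  obtain ⟨t, ht, hd⟩ := hd
  have hu : IsUnit (spR h t) := not_not.mp fun hn => ht ((mem_primeAt h t).mpr hn)
  have h1 := map_dvd (spR h) hd
  rwa [map_mul, hu.dvd_mul_left] at h1

lemma eq_genericPoint_of_coheight_eq_zero {y : X} (h : coheight y = 0) : y = genericPoint X := by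
  by_contra hne
  have := coheight_add_one_le (IdealSh.ne_generization (hsp y) (Ne.symm hne))
  rw [h] at this
  simp at this

lemma genericPoint_coheight_ne_one : coheight (genericPoint X) ≠ 1 := by
  rw [coheight_eq_zero.mpr fun z _ => Scheme.le_iff_specializes.mpr (hsp z)]
  decide

/-- The proper generalization of a codimension one point is the generic point. -/
lemma eq_or_eq_genericPoint {w y : X} (hy : coheight y = 1) (h : w ⤳ y) : w = y ∨ w = genericPoint X := by
  refine or_iff_not_imp_left.mpr fun hne => eq_genericPoint_of_coheight_eq_zero ?_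
  have := coheight_add_one_le (IdealSh.ne_generization h hne)
  rw [hy] at this
  exact nonpos_iff_eq_zero.mp ((ENat.add_le_add_iff_right ENat.one_ne_top).mp (this.trans (zero_add 1).ge))

end Integral

variable [IsIntegral X] [IsIntegral Y] (φ : X ⟶ Y)

lemma map_genericPoint [Flat φ] : φ (genericPoint X) = genericPoint Y := by
  obtain ⟨z, hz, hzy⟩ := exists_lift φ (genericPoint X) (hsp (φ (genericPoint X)))
  rwa [(hz.antisymm (hsp z)).eq] at hzy

variable [Flat φ]

/-- The map of function fields. -/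
def Φ : Y.presheaf.stalk (genericPoint Y) →+* X.presheaf.stalk (genericPoint X) :=
  (φ.stalkMap (genericPoint X)).hom.comp (spR (specializes_of_eq (map_genericPoint φ)))

lemma Φ_toK (x : X) (a : Y.presheaf.stalk (φ x)) : Φ φ (toK (φ x) a) = toK x (φ.stalkMap x a) := by
  rw [Φ, RingHom.comp_apply, spR_spR, toK, stalkMap_spR]

lemma isUnit_Φ {a : Y.presheaf.stalk (genericPoint Y)} (ha : a ≠ 0) : IsUnit (Φ φ a) :=
  (Ref1.isUnit_of_ne_zero ha).map _

lemma stalkMap_ne_zero (x : X) {a : Y.presheaf.stalk (φ x)} (ha : a ≠ 0) : φ.stalkMap x a ≠ 0 := fun h => by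
  have := Φ_toK φ x a
  rw [h, map_zero] at this
  exact (isUnit_Φ φ (toK_ne_zero ha)).ne_zero this

variable (hfib : ∀ y : Y, IsIntegral (φ.fiber y))

omit [IsIntegral X] [IsIntegral Y] [Flat φ] in
include hfib in
lemma exists_generic_fibre (y : Y) : ∃ g : X, φ g = y ∧ ∀ z, φ z = y → g ⤳ z := by
  haveI := hfib y
  refine ⟨φ.fiberι y (genericPoint (φ.fiber y)), ?_, fun z hz => ?_⟩
  · have : φ.fiberι y (genericPoint (φ.fiber y)) ∈ φ ⁻¹' {y} := φ.range_fiberι y ▸ ⟨_, rfl⟩
    exact this
  · obtain ⟨w, rfl⟩ : z ∈ Set.range (φ.fiberι y) := by rw [φ.range_fiberι y]; exact hz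
    exact ((genericPoint_spec _).specializes trivial).map (φ.fiberι y).continuous

/-- The generic point of a fibre. -/
def fgen (y : Y) : X := (exists_generic_fibre φ hfib y).choose

omit [IsIntegral X] [IsIntegral Y] [Flat φ] in
lemma map_fgen (y : Y) : φ (fgen φ hfib y) = y := (exists_generic_fibre φ hfib y).choose_spec.1

omit [IsIntegral X] [IsIntegral Y] [Flat φ] in
lemma fgen_specializes {z : X} {y : Y} (hz : φ z = y) : fgen φ hfib y ⤳ z :=
  (exists_generic_fibre φ hfib y).choose_spec.2 z hz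

lemma fgen_specializes' (x : X) {y : Y} (hy : y ⤳ φ x) : fgen φ hfib y ⤳ x := by
  obtain ⟨z, hz, hzy⟩ := exists_lift φ x hy
  exact (fgen_specializes φ hfib hzy).trans hz

omit [IsIntegral X] [IsIntegral Y] [Flat φ] in
include hfib in
/-- An element vanishing at the generic point of the fibre is in the extended maximal ideal. -/
lemma mem_map_of_not_isUnit (z : X) {y : Y} (hy : φ z = y) (h : fgen φ hfib y ⤳ z) (a : X.presheaf.stalk z)
    (ha : ¬ IsUnit (spR h a)) :
    a ∈ (IsLocalRing.maximalIdeal (Y.presheaf.stalk (φ z))).map (φ.stalkMap z).hom := by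
  set I := (IsLocalRing.maximalIdeal (Y.presheaf.stalk (φ z))).map (φ.stalkMap z).hom
  haveI : I.IsPrime := by
    obtain ⟨ψ, -, hker⟩ := FlatMor.FibreStalk.exists_fibre_stalk φ z
    haveI := hfib (φ z)
    have hp := RingHom.ker_isPrime ψ
    rw [hker] at hp
    exact hp
  obtain ⟨p, hp, hpI⟩ := exists_point z I
  have hφp : φ p = φ z := by
    refine eq_of_primeAt_eq (hp.map φ.continuous) (specializes_refl _) ?_
    rw [← primeAt_map φ hp, hpI, primeAt_refl]
    exact ((IsLocalRing.maximalIdeal.isMaximal _).eq_of_le (Ideal.IsPrime.comap (φ.stalkMap z).hom).ne_top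
      Ideal.le_comap_map).symm
  have hgp : fgen φ hfib y ⤳ p := fgen_specializes φ hfib (hφp.trans hy)
  by_contra hna
  rw [← hpI, mem_primeAt, not_not] at hna
  have := hna.map (spR hgp)
  rw [spR_spR] at this
  exact ha this

omit [IsIntegral X] [IsIntegral Y] [Flat φ] in
include hfib in
lemma maximalIdeal_fgen (y : Y) :
    IsLocalRing.maximalIdeal (X.presheaf.stalk (fgen φ hfib y)) =
      (IsLocalRing.maximalIdeal (Y.presheaf.stalk (φ (fgen φ hfib y)))).map (φ.stalkMap (fgen φ hfib y)).hom := by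
  refine le_antisymm (fun a ha => mem_map_of_not_isUnit φ hfib _ (map_fgen φ hfib y) (specializes_refl _) a ?_) ?_
  · rw [spR_refl_apply]; exact (IsLocalRing.mem_maximalIdeal a).mp ha
  · refine Ideal.map_le_iff_le_comap.mpr fun a ha => ?_
    rw [Ideal.mem_comap, IsLocalRing.mem_maximalIdeal] at *
    exact fun hu => ha ((isUnit_map_iff (φ.stalkMap (fgen φ hfib y)).hom a).mp hu)

include hfib in
/-- Denominators coming from the base. -/
lemma exists_denom (x : X) (w : X.presheaf.stalk (genericPoint X))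
    (hw : ∀ z, z ⤳ x → φ z = genericPoint Y → w ∈ Set.range (toK z)) :
    ∃ c : Y.presheaf.stalk (φ x), c ≠ 0 ∧ toK x (φ.stalkMap x c) * w ∈ Set.range (toK x) := by
  let _ := hfib
  let D : Ideal (X.presheaf.stalk x) :=
    { carrier := {b | toK x b * w ∈ Set.range (toK x)}
      add_mem' := fun {a b} ⟨u, hu⟩ ⟨v, hv⟩ => ⟨u + v, by rw [map_add, map_add, hu, hv, add_mul]⟩
      zero_mem' := ⟨0, by rw [map_zero, zero_mul]⟩
      smul_mem' := fun r a ⟨u, hu⟩ => ⟨r * u, by rw [smul_eq_mul, map_mul, map_mul, hu, mul_assoc]⟩ }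
  let S : Submonoid (X.presheaf.stalk x) := (nonZeroDivisors (Y.presheaf.stalk (φ x))).map (φ.stalkMap x).hom
  by_cases hd : Disjoint (D : Set (X.presheaf.stalk x)) (S : Set (X.presheaf.stalk x))
  · obtain ⟨P, hP, hDP, hPS⟩ := Ideal.exists_le_prime_disjoint D S hd
    obtain ⟨z, hz, hzP⟩ := exists_point x P
    have hzη : φ z = genericPoint Y := by
      refine eq_of_primeAt_eq (x := φ x) (hz.map φ.continuous) (hsp (φ x)) ?_
      rw [← primeAt_map φ hz, hzP]
      refine le_antisymm (fun a ha => ?_) (fun a ha => ?_)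
      · by_cases ha0 : a = 0
        · rw [ha0]; exact Ideal.zero_mem _
        · exact absurd ha (Set.disjoint_left.mp hPS.symm ⟨a, mem_nonZeroDivisors_iff_ne_zero.mpr ha0, rfl⟩)
      · rw [mem_primeAt] at ha
        by_cases ha0 : a = 0
        · rw [ha0]; exact Ideal.zero_mem _
        · exact absurd (Ref1.isUnit_of_ne_zero (toK_ne_zero ha0)) ha
    obtain ⟨u, hu⟩ := hw z hz hzη
    obtain ⟨a, s, hs, has⟩ := exists_frac hz u
    have hsD : s ∈ D := by
      refine ⟨a, ?_⟩
      have h1 := congrArg (toK z) has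
      rw [map_mul, hu, spR_spR, spR_spR] at h1
      rw [mul_comm]
      exact h1.symm
    exact absurd (hzP ▸ hDP hsD) (fun h => (mem_primeAt hz s).mp h hs)
  · obtain ⟨_, hb, c, hc, rfl⟩ := Set.not_disjoint_iff.mp hd
    exact ⟨c, mem_nonZeroDivisors_iff_ne_zero.mp hc, hb⟩

variable [IsLocallyNoetherian X] [IsLocallyNoetherian Y] (hY : Pi1.IsNormalScheme Y)

omit [IsIntegral X] [Flat φ] [IsLocallyNoetherian X] in
/-- A uniformizer coming from a special point. -/
lemma exists_uniformizer {y y' : Y} (h : y' ⤳ y) [IsDiscreteValuationRing (Y.presheaf.stalk y')] :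
    ∃ π : Y.presheaf.stalk y, Irreducible (spR h π) := by
  obtain ⟨ϖ, hϖ⟩ := IsDiscreteValuationRing.exists_irreducible (Y.presheaf.stalk y')
  obtain ⟨a, s, hs, has⟩ := exists_frac h ϖ
  exact ⟨a, (Associated.irreducible ⟨hs.unit, has⟩ hϖ)⟩

include hfib hY in
/-- A rational function invertible on the generic fibre is, up to a unit, pulled back from the base. -/
theorem exists_factor (x : X) (v : X.presheaf.stalk (genericPoint X)) (hv0 : v ≠ 0)
    (hv : ∀ z, z ⤳ x → φ z = genericPoint Y → ∃ u, IsUnit u ∧ toK z u = v) :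
    ∃ (f : Y.presheaf.stalk (genericPoint Y)) (u : X.presheaf.stalk x),
      f ≠ 0 ∧ IsUnit u ∧ v = toK x u * Φ φ f := by
  classical
  obtain ⟨c₁, hc₁, b₀, hb₀⟩ := exists_denom φ hfib x v fun z hz hzη => by
    obtain ⟨u, -, hu⟩ := hv z hz hzη
    exact ⟨u, hu⟩
  have hk₁ : toK x (φ.stalkMap x c₁) ≠ 0 := toK_ne_zero (stalkMap_ne_zero φ x hc₁)
  obtain ⟨v', hv'⟩ := Ref1.isUnit_of_ne_zero (mul_ne_zero hk₁ hv0)
  have hb0 : b₀ ≠ 0 := fun h => by
    rw [h, map_zero] at hb₀
    exact mul_ne_zero hk₁ hv0 hb₀.symm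
  obtain ⟨c, hc, e, he⟩ := exists_denom φ hfib x (v'⁻¹ : (X.presheaf.stalk (genericPoint X))ˣ).1 fun z hz hzη => by
    obtain ⟨u, hu, huv⟩ := hv z hz hzη
    have hu₁ : IsUnit (spR hz (φ.stalkMap x c₁)) := by
      rw [stalkMap_spR]
      refine IsUnit.map _ ?_
      refine not_not.mp fun hn => ?_
      have hm : c₁ ∈ primeAt (hz.map φ.continuous) := (mem_primeAt _ _).mpr hn
      rw [mem_primeAt] at hm
      apply hm
      have : ∀ (w : Y) (hw : w ⤳ φ x), w = genericPoint Y → IsUnit (spR hw c₁) := by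
        rintro _ hw rfl
        exact Ref1.isUnit_of_ne_zero (toK_ne_zero hc₁)
      exact this _ _ hzη
    obtain ⟨r, hr⟩ := hu₁.mul hu
    refine ⟨(r⁻¹ : (X.presheaf.stalk z)ˣ).1, ?_⟩
    refine Units.inv_eq_of_mul_eq_one_right (u := v') ?_ |>.symm
    have h2 : toK z (r : X.presheaf.stalk z) = (v' : X.presheaf.stalk (genericPoint X)) := by
      rw [hr, map_mul, huv, spR_spR, hv']
    rw [← h2, ← map_mul, Units.mul_inv, map_one]
  have hbe : b₀ * e = φ.stalkMap x c := toK_injective x (by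
    rw [map_mul, hb₀, he, ← hv', mul_left_comm, Units.mul_inv, mul_one])
  have he0 : e ≠ 0 := fun h => stalkMap_ne_zero φ x hc (by rw [← hbe, h, mul_zero])
  -- the codimension one points where the denominator vanishes
  let Q : Type u := {y' : Y // ∃ h : y' ⤳ φ x, coheight y' = 1 ∧ ¬ IsUnit (spR h c)}
  haveI : Finite Q := by
    haveI := (Ideal.finite_minimalPrimes_of_isNoetherianRing (Y.presheaf.stalk (φ x)) (Ideal.span {c})).to_subtype
    let F : Q → (Ideal.span {c}).minimalPrimes := fun a => ⟨primeAt a.2.choose, ?_⟩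
    · exact Finite.of_injective F fun a b hab =>
        Subtype.ext (eq_of_primeAt_eq a.2.choose b.2.choose (congrArg Subtype.val hab))
    · refine ⟨⟨Ideal.IsPrime.comap _, (Ideal.span_singleton_le_iff_mem _).mpr
        ((mem_primeAt _ _).mpr a.2.choose_spec.2)⟩, fun p hp hle => ?_⟩
      haveI := hp.1
      obtain ⟨w, hw, hwp⟩ := exists_point (φ x) p
      have hwy : w ⤳ a.1 := specializes_of_primeAt_le hw a.2.choose (hwp ▸ hle)
      rcases eq_or_eq_genericPoint a.2.choose_spec.1 hwy with h | h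
      · rw [← hwp]
        exact le_of_eq (by subst h; rfl)
      · exfalso
        have hcw : c ∈ primeAt hw := hwp ▸ hp.2 (Ideal.mem_span_singleton_self c)
        rw [mem_primeAt] at hcw
        subst h
        exact hcw (Ref1.isUnit_of_ne_zero (toK_ne_zero hc))
  have hdvr : ∀ i : Q, IsDiscreteValuationRing (Y.presheaf.stalk i.1) := fun i =>
    (VarDim.isDiscreteValuationRing_stalk_of_coheight_eq_one hY i.1 i.2.choose_spec.1).2
  haveI := hdvr
  choose π hπ using fun i : Q => exists_uniformizer i.2.choose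
  let g : Q → X := fun i => fgen φ hfib i.1
  have hg : ∀ i, g i ⤳ x := fun i => fgen_specializes' φ hfib x i.2.choose
  let P : Q → Ideal (X.presheaf.stalk x) := fun i => primeAt (hg i)
  let q : Q → Ideal (Y.presheaf.stalk (φ x)) := fun i => primeAt i.2.choose
  have hqP : ∀ i, (P i).comap (φ.stalkMap x).hom = q i := fun i => by
    have key : ∀ (w : Y) (hw : w ⤳ φ x), w = i.1 → primeAt hw = q i := by
      rintro _ hw rfl
      rfl
    exact (primeAt_map φ (hg i)).trans (key _ _ (map_fgen φ hfib i.1))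
  have hmax : ∀ i, IsLocalRing.maximalIdeal (X.presheaf.stalk (g i)) =
      Ideal.span {spR (hg i) (φ.stalkMap x (π i))} := fun i => by
    rw [maximalIdeal_fgen φ hfib i.1, stalkMap_spR]
    have key : ∀ (w : Y) (hw : w ⤳ φ x), w = i.1 →
        IsLocalRing.maximalIdeal (Y.presheaf.stalk w) = Ideal.span {spR hw (π i)} := by
      rintro _ hw rfl
      exact (IsDiscreteValuationRing.irreducible_iff_uniformizer _).mp (hπ i)
    rw [key _ ((hg i).map φ.continuous) (map_fgen φ hfib i.1), Ideal.map_span, Set.image_singleton]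
  have hπ0 : ∀ i, π i ≠ 0 := fun i h => (hπ i).ne_zero (by rw [h, map_zero])
  have hexp : ∀ i, ∃ n : ℕ, Associated (spR (hg i) (φ.stalkMap x (π i)) ^ n) (spR (hg i) b₀) := fun i => by
    obtain ⟨n, hn⟩ := IdealSh.exists_eq_pow ⟨_, hmax i⟩ (Ideal.span {spR (hg i) b₀})
      (fun h => hb0 (spR_injective (hg i) ((Ideal.span_singleton_eq_bot.mp h).trans (map_zero _).symm)))
    rw [hmax i, Ideal.span_singleton_pow] at hn
    exact ⟨n, (Ideal.span_singleton_eq_span_singleton.mp hn).symm⟩
  choose n hn using hexp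
  have hexpc : ∀ i : Q, ∃ m : ℕ, Associated (spR i.2.choose (π i) ^ m) (spR i.2.choose c) := fun i => by
    have h0 : spR i.2.choose c ≠ 0 := fun h => hc (spR_injective i.2.choose (h.trans (map_zero _).symm))
    obtain ⟨m, hm⟩ := IsDiscreteValuationRing.associated_pow_irreducible h0 (hπ i)
    exact ⟨m, hm.symm⟩
  choose m hm using hexpc
  letI := (φ.stalkMap x).hom.toAlgebra
  haveI : Module.Flat (Y.presheaf.stalk (φ x)) (X.presheaf.stalk x) := Flat.stalkMap φ x
  haveI : ∀ i, (q i).IsPrime := fun i => Ideal.IsPrime.comap _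
  haveI : ∀ i, (P i).IsPrime := fun i => Ideal.IsPrime.comap _
  have hπP : ∀ i, φ.stalkMap x (π i) ∈ P i := fun i => by
    have : π i ∈ (P i).comap (φ.stalkMap x).hom := by
      rw [hqP i]; exact (mem_primeAt _ _).mpr (hπ i).not_isUnit
    exact this
  have hfibre : ∀ i, ∀ b ∈ P i, ∃ s ∉ q i, φ.stalkMap x (π i) ∣ φ.stalkMap x s * b := by
    intro i b hb
    let D : Ideal (X.presheaf.stalk x) :=
      { carrier := {t | φ.stalkMap x (π i) ∣ t * b}
        add_mem' := fun {s t} hs ht => by rw [Set.mem_setOf_eq, add_mul]; exact dvd_add hs ht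
        zero_mem' := by simp
        smul_mem' := fun r t ht => by rw [Set.mem_setOf_eq, smul_eq_mul, mul_assoc]; exact ht.mul_left r }
    let S : Submonoid (X.presheaf.stalk x) := (q i).primeCompl.map (φ.stalkMap x).hom
    by_cases hd : Disjoint (D : Set (X.presheaf.stalk x)) (S : Set (X.presheaf.stalk x))
    · exfalso
      obtain ⟨P', hP', hDP, hPS⟩ := Ideal.exists_le_prime_disjoint D S hd
      obtain ⟨z, hz, hzP⟩ := exists_point x P'
      have hzle : primeAt (hz.map φ.continuous) ≤ q i := by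
        rw [← primeAt_map φ hz, hzP]
        intro s hs
        by_contra hsq
        exact Set.disjoint_left.mp hPS hs ⟨s, hsq, rfl⟩
      have hzy : φ z = i.1 := by
        refine (eq_or_eq_genericPoint i.2.choose_spec.1 (specializes_of_primeAt_le _ i.2.choose hzle)).resolve_right ?_
        intro hη
        have hπz : π i ∈ primeAt (hz.map φ.continuous) := by
          rw [← primeAt_map φ hz, hzP]
          exact hDP (show φ.stalkMap x (π i) ∣ φ.stalkMap x (π i) * b from dvd_mul_right _ _)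
        have key : ∀ (w : Y) (hw : w ⤳ φ x), w = genericPoint Y → IsUnit (spR hw (π i)) := by
          rintro _ hw rfl
          exact Ref1.isUnit_of_ne_zero (toK_ne_zero (hπ0 i))
        exact (mem_primeAt _ _).mp hπz (key _ _ hη)
      have hgz : g i ⤳ z := fgen_specializes φ hfib hzy
      have h1 := mem_map_of_not_isUnit φ hfib z hzy hgz (spR hz b) (by
        rw [spR_spR]; exact (mem_primeAt _ _).mp hb)
      have key : ∀ (w : Y) (hw : w ⤳ φ x), w = i.1 →
          IsLocalRing.maximalIdeal (Y.presheaf.stalk w) = Ideal.span {spR hw (π i)} := by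
        rintro _ hw rfl
        exact (IsDiscreteValuationRing.irreducible_iff_uniformizer _).mp (hπ i)
      rw [key _ (hz.map φ.continuous) hzy, Ideal.map_span, Set.image_singleton, Ideal.mem_span_singleton] at h1
      obtain ⟨t, ht, htd⟩ := exists_dvd_of_dvd hz (p := φ.stalkMap x (π i)) (b := b) (by rw [stalkMap_spR]; exact h1)
      exact ht (hzP ▸ hDP htd)
    · obtain ⟨_, hb', s, hs, rfl⟩ := Set.not_disjoint_iff.mp hd
      exact ⟨s, hs, hb'⟩
  have hmemb₀ : b₀ ∈ (symb q π n).map (φ.stalkMap x).hom := by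
    refine mem_map_symb q P π n (fun i => stalkMap_ne_zero φ x (hπ0 i)) hπP hfibre fun i => ?_
    exact exists_dvd_of_dvd (hg i) (by rw [map_pow]; exact (hn i).dvd)
  have hcmem : ∀ a ∈ symb q π m, c ∣ a := by
    intro a ha
    have hk : toK (φ x) c ≠ 0 := toK_ne_zero hc
    obtain ⟨uc, huc⟩ := Ref1.isUnit_of_ne_zero hk
    obtain ⟨d, hd⟩ := mem_range_toK_of_codim_one hY (φ x) (toK (φ x) a * (uc⁻¹ : (Y.presheaf.stalk (genericPoint Y))ˣ).1)
      fun y' hy' hdim => by
        suffices hdvd : spR hy' c ∣ spR hy' a by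
          obtain ⟨d, hd⟩ := hdvd
          refine ⟨d, ?_⟩
          have h1 := congrArg (toK y') hd
          rw [map_mul, spR_spR, spR_spR] at h1
          rw [h1, ← huc, mul_comm (uc : Y.presheaf.stalk (genericPoint Y)), mul_assoc, Units.mul_inv, mul_one]
        by_cases hu : IsUnit (spR hy' c)
        · exact hu.dvd
        · let i : Q := ⟨y', hy', coheight_eq_one hdim, hu⟩
          have h1 := dvd_of_exists_dvd i.2.choose (p := π i ^ m i) (b := a) (ha i)
          rw [map_pow] at h1
          exact (hm i).symm.dvd.trans h1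
    refine ⟨d, toK_injective _ ?_⟩
    rw [map_mul, hd, ← huc, mul_left_comm, Units.mul_inv, mul_one]
  have hdvd : ∀ a ∈ symb q π n, b₀ ∣ φ.stalkMap x a := by
    intro a ha
    have h1 : φ.stalkMap x a * e ∈ (symb q π m).map (φ.stalkMap x).hom := by
      refine mem_map_symb q P π m (fun i => stalkMap_ne_zero φ x (hπ0 i)) hπP hfibre fun i => ?_
      refine exists_dvd_of_dvd (hg i) ?_
      obtain ⟨s, hs, hsd⟩ := ha i
      have h2 : spR (hg i) (φ.stalkMap x (π i)) ^ n i ∣ spR (hg i) (φ.stalkMap x a) := by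
        rw [← map_pow]
        refine dvd_of_exists_dvd (hg i) ⟨φ.stalkMap x s, ?_, ?_⟩
        · intro hmem
          exact hs (hqP i ▸ hmem)
        · rw [← map_pow, ← map_mul]; exact map_dvd _ hsd
      obtain ⟨w, hw⟩ := (hn i).symm.dvd.trans h2
      rw [map_pow, map_mul (spR (hg i)), hw, mul_right_comm, ← map_mul, hbe]
      refine Dvd.dvd.mul_right ?_ w
      have key : ∀ (w : Y) (hw : w ⤳ φ x), w = i.1 → spR hw (π i) ^ m i ∣ spR hw c := by
        rintro _ hw rfl
        exact (hm i).dvd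
      rw [RingHom.algebraMap_toAlgebra, stalkMap_spR, stalkMap_spR, ← map_pow]
      exact map_dvd _ (key _ _ (map_fgen φ hfib i.1))
    have h3 : φ.stalkMap x c ∣ φ.stalkMap x a * e := by
      have h4 : (symb q π m).map (φ.stalkMap x).hom ≤ Ideal.span {φ.stalkMap x c} :=
        Ideal.map_le_iff_le_comap.mpr fun a' ha' => Ideal.mem_span_singleton.mpr (map_dvd _ (hcmem a' ha'))
      exact Ideal.mem_span_singleton.mp (h4 h1)
    rw [← hbe] at h3
    exact (mul_dvd_mul_iff_right he0).mp h3
  obtain ⟨a, ha, w, hw, haw⟩ := exists_isUnit_of_mem_map (symb q π n) hb0 hmemb₀ hdvd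
  have ha0 : a ≠ 0 := fun h => by
    rw [h, map_zero] at haw
    exact mul_ne_zero hb0 hw.ne_zero haw.symm
  obtain ⟨u₁, hu₁⟩ := Ref1.isUnit_of_ne_zero (toK_ne_zero hc₁)
  obtain ⟨uw, rfl⟩ := hw
  refine ⟨toK (φ x) a * (u₁⁻¹ : (Y.presheaf.stalk (genericPoint Y))ˣ).1, (uw⁻¹ : (X.presheaf.stalk x)ˣ).1,
    mul_ne_zero (toK_ne_zero ha0) (Units.ne_zero _), (uw⁻¹).isUnit, ?_⟩
  have hΦ : Φ φ (toK (φ x) a) = toK x b₀ * toK x (uw : X.presheaf.stalk x) := by
    rw [Φ_toK, ← map_mul]
    exact congrArg (toK x) haw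
  rw [map_mul, hΦ, hb₀, ← Φ_toK, ← hu₁,
    show toK x (uw⁻¹ : (X.presheaf.stalk x)ˣ).1 * (Φ φ u₁ * v * toK x (uw : X.presheaf.stalk x) * Φ φ (u₁⁻¹ : (Y.presheaf.stalk (genericPoint Y))ˣ).1) =
      (toK x (uw⁻¹ : (X.presheaf.stalk x)ˣ).1 * toK x (uw : X.presheaf.stalk x)) *
        (Φ φ u₁ * Φ φ (u₁⁻¹ : (Y.presheaf.stalk (genericPoint Y))ˣ).1) * v by ring,
    ← map_mul, ← map_mul, Units.inv_mul, Units.mul_inv, map_one, map_one, one_mul, one_mul]

end Groth.Agent.FlatPull

end
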