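import Mathlib.RingTheory.Flat.Basic
import Mathlib.LinearAlgebra.TensorProduct.Quotient
import Mathlib.LinearAlgebra.TensorProduct.Pi
import Mathlib.RingTheory.Localization.Ideal
import Mathlib.RingTheory.LocalRing.MaximalIdeal.Basic

/-!
# Extensions of symbolic powers along flat maps
-/

universe u

open TensorProduct

noncomputable section

namespace Groth.Agent.FlatPull

variable {A B : Type u} [CommRing A] [CommRing B] [Algebra A B]

/-- Membership in an extended ideal, through the tensor product with the quotient. -/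
lemma mem_map_iff_tmul_eq_zero (J : Ideal A) (b : B) :
    b ∈ J.map (algebraMap A B) ↔ b ⊗ₜ[A] (Ideal.Quotient.mk J 1) = 0 := by
  have h := TensorProduct.tensorQuotEquivQuotSMul_tmul_mk (M := B) J b 1
  rw [one_smul] at h
  rw [← (TensorProduct.tensorQuotEquivQuotSMul B J).map_eq_zero_iff, h, Submodule.Quotient.mk_eq_zero,
    Ideal.smul_top_eq_map]
  rfl

variable [Module.Flat A B]

/-- Cancellation of an element which is a nonzerodivisor modulo the ideal. -/
lemma mem_map_of_mul_mem (J : Ideal A) (s : A) (hs : ∀ a, s * a ∈ J → a ∈ J) {b : B}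
    (hb : algebraMap A B s * b ∈ J.map (algebraMap A B)) : b ∈ J.map (algebraMap A B) := by
  rw [mem_map_iff_tmul_eq_zero] at hb ⊢
  let m : A ⧸ J →ₗ[A] A ⧸ J := LinearMap.lsmul A (A ⧸ J) s
  have hm : Function.Injective m := by
    rw [injective_iff_map_eq_zero]
    intro x hx
    obtain ⟨a, rfl⟩ := Ideal.Quotient.mk_surjective x
    exact Ideal.Quotient.eq_zero_iff_mem.mpr (hs a (Ideal.Quotient.eq_zero_iff_mem.mp hx))
  refine Module.Flat.lTensor_preserves_injective_linearMap (M := B) m hm ?_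
  rw [map_zero, LinearMap.lTensor_tmul]
  show b ⊗ₜ[A] (s • Ideal.Quotient.mk J 1) = 0
  rw [← TensorProduct.smul_tmul, Algebra.smul_def]
  exact hb

/-- An element in each of finitely many extended ideals lies in the extension of the intersection. -/
lemma mem_map_iInf {ι : Type u} [Finite ι] (J : ι → Ideal A) {b : B}
    (hb : ∀ i, b ∈ (J i).map (algebraMap A B)) : b ∈ (⨅ i, J i).map (algebraMap A B) := by
  classical
  haveI := Fintype.ofFinite ι
  rw [mem_map_iff_tmul_eq_zero]
  let f : (A ⧸ ⨅ i, J i) →ₗ[A] (∀ i, A ⧸ J i) :=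
    LinearMap.pi fun i => Submodule.mapQ (⨅ i, J i) (J i) LinearMap.id (iInf_le J i)
  have hf : Function.Injective f := by
    rw [injective_iff_map_eq_zero]
    intro x hx
    obtain ⟨a, rfl⟩ := Ideal.Quotient.mk_surjective x
    refine Ideal.Quotient.eq_zero_iff_mem.mpr (Ideal.mem_iInf.mpr fun i => ?_)
    exact Ideal.Quotient.eq_zero_iff_mem.mp (congrFun hx i)
  refine Module.Flat.lTensor_preserves_injective_linearMap (M := B) f hf ?_
  rw [map_zero, LinearMap.lTensor_tmul]
  refine (TensorProduct.piRight A A B fun i => A ⧸ J i).injective ?_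
  funext i
  rw [map_zero, Pi.zero_apply, TensorProduct.piRight_apply, TensorProduct.piRightHom_tmul]
  exact (mem_map_iff_tmul_eq_zero (J i) b).mp (hb i)

variable [IsDomain B] {ι : Type u} [Finite ι] (q : ι → Ideal A) [∀ i, (q i).IsPrime]
  (P : ι → Ideal B) [∀ i, (P i).IsPrime] (π : ι → A) (n : ι → ℕ)

/-- The intersection of symbolic powers. -/
def symb : Ideal A where
  carrier := {a | ∀ i, ∃ s ∉ q i, π i ^ n i ∣ s * a}
  add_mem' := fun {a b} ha hb i => by
    obtain ⟨s, hs, h⟩ := ha i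
    obtain ⟨t, ht, h'⟩ := hb i
    exact ⟨s * t, fun hm => (‹∀ i, (q i).IsPrime› i).mem_or_mem hm |>.elim hs ht, by
      rw [mul_add]
      exact dvd_add (h.trans ⟨t, by ring⟩) (h'.trans ⟨s, by ring⟩)⟩
  zero_mem' := fun i => ⟨1, (Ideal.ne_top_iff_one _).mp (‹∀ i, (q i).IsPrime› i).ne_top, by simp⟩
  smul_mem' := fun c a ha i => by
    obtain ⟨s, hs, h⟩ := ha i
    exact ⟨s, hs, h.trans ⟨c, by rw [smul_eq_mul]; ring⟩⟩

/-- An element divisible by the prescribed powers at the primes over the `q i` lies in the extended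
intersection of symbolic powers. -/
theorem mem_map_symb (hπ : ∀ i, algebraMap A B (π i) ≠ 0) (hπP : ∀ i, algebraMap A B (π i) ∈ P i)
    (hfib : ∀ i, ∀ b ∈ P i, ∃ s ∉ q i, algebraMap A B (π i) ∣ algebraMap A B s * b)
    {b : B} (hb : ∀ i, ∃ t ∉ P i, algebraMap A B (π i) ^ n i ∣ t * b) :
    b ∈ (symb q π n).map (algebraMap A B) := by
  let J : ι → Ideal A := fun i =>
    { carrier := {a | ∃ s ∉ q i, π i ^ n i ∣ s * a}
      add_mem' := fun {a b} => by
        rintro ⟨s, hs, h⟩ ⟨t, ht, h'⟩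
        exact ⟨s * t, fun hm => (‹∀ i, (q i).IsPrime› i).mem_or_mem hm |>.elim hs ht, by
          rw [mul_add]
          exact dvd_add (h.trans ⟨t, by ring⟩) (h'.trans ⟨s, by ring⟩)⟩
      zero_mem' := ⟨1, (Ideal.ne_top_iff_one _).mp (‹∀ i, (q i).IsPrime› i).ne_top, by simp⟩
      smul_mem' := fun c a => by
        rintro ⟨s, hs, h⟩
        exact ⟨s, hs, h.trans ⟨c, by rw [smul_eq_mul]; ring⟩⟩ }
  have hJ : (⨅ i, J i) = symb q π n := by
    ext a
    rw [Ideal.mem_iInf]
    rfl
  rw [← hJ]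
  refine mem_map_iInf J fun i => ?_
  have main : ∀ (k : ℕ) (b : B), (∃ t ∉ P i, algebraMap A B (π i) ^ k ∣ t * b) →
      ∃ s ∉ q i, algebraMap A B (π i) ^ k ∣ algebraMap A B s * b := by
    intro k
    induction k with
    | zero =>
      exact fun b _ => ⟨1, (Ideal.ne_top_iff_one _).mp (‹∀ i, (q i).IsPrime› i).ne_top, by simp⟩
    | succ k ih =>
      rintro b ⟨t, ht, d, hd⟩
      have hbP : b ∈ P i := by
        refine ((‹∀ i, (P i).IsPrime› i).mem_or_mem (show t * b ∈ P i from ?_)).resolve_left ht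
        rw [hd, pow_succ]
        exact Ideal.mul_mem_right _ _ (Ideal.mul_mem_left _ _ (hπP i))
      obtain ⟨s, hs, b', hb'⟩ := hfib i b hbP
      have h1 : t * b' = algebraMap A B (π i) ^ k * (algebraMap A B s * d) := by
        refine mul_left_cancel₀ (hπ i) ?_
        calc algebraMap A B (π i) * (t * b') = t * (algebraMap A B (π i) * b') := by ring
          _ = algebraMap A B s * (t * b) := by rw [← hb']; ring
          _ = algebraMap A B (π i) * (algebraMap A B (π i) ^ k * (algebraMap A B s * d)) := by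
            rw [hd]; ring
      obtain ⟨s', hs', e, he⟩ := ih b' ⟨t, ht, _, h1⟩
      refine ⟨s' * s, fun hm => (‹∀ i, (q i).IsPrime› i).mem_or_mem hm |>.elim hs' hs, e, ?_⟩
      rw [map_mul, mul_assoc, hb', ← mul_assoc, mul_comm (algebraMap A B s'), mul_assoc, he]
      ring
  obtain ⟨s, hs, hdvd⟩ := main (n i) b (hb i)
  refine mem_map_of_mul_mem (J i) s ?_ ?_
  · rintro a ⟨t, ht, h⟩
    exact ⟨t * s, fun hm => (‹∀ i, (q i).IsPrime› i).mem_or_mem hm |>.elim ht hs, by rwa [mul_assoc]⟩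
  · obtain ⟨e, he⟩ := hdvd
    rw [he, ← map_pow]
    exact Ideal.mul_mem_right _ _ (Ideal.mem_map_of_mem _
      ⟨1, (Ideal.ne_top_iff_one _).mp (‹∀ i, (q i).IsPrime› i).ne_top, by simp⟩)

/-- Dividing by an element all whose multiples are multiples of elements of the base. -/
lemma exists_isUnit_of_mem_map [IsLocalRing B] (J : Ideal A) {b₀ : B} (hb₀ : b₀ ≠ 0)
    (h0 : b₀ ∈ J.map (algebraMap A B)) (hdvd : ∀ a ∈ J, b₀ ∣ algebraMap A B a) :
    ∃ a ∈ J, ∃ w : B, IsUnit w ∧ algebraMap A B a = b₀ * w := by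
  by_contra hne
  push Not at hne
  have hle : J.map (algebraMap A B) ≤ Ideal.span {b₀} * IsLocalRing.maximalIdeal B := by
    refine Ideal.map_le_iff_le_comap.mpr fun a ha => ?_
    obtain ⟨w, hw⟩ := hdvd a ha
    refine Ideal.mem_span_singleton_mul.mpr ⟨w, ?_, hw.symm⟩
    exact (IsLocalRing.mem_maximalIdeal w).mpr fun hu => hne a ha w hu hw
  obtain ⟨m, hm, he⟩ := Ideal.mem_span_singleton_mul.mp (hle h0)
  have : m = 1 := mul_left_cancel₀ hb₀ (he.trans (mul_one b₀).symm)
  exact (IsLocalRing.mem_maximalIdeal m).mp hm (this ▸ isUnit_one)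

end Groth.Agent.FlatPull

end
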