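import Groth.Agent.FlatPull.Local
import Groth.Agent.ExtPowSt.Modification
import Groth.Agent.Ref1.Extend
import Groth.Agent.Ref1.Cycle
import Groth.Agent.PicCl.Basic
import Groth.Agent.MonoVal.Immersion
import Groth.Agent.S8886
import Mathlib.AlgebraicGeometry.Morphisms.UniversallyOpen
import Mathlib.RingTheory.DiscreteValuationRing.TFAE

/-!
# Invertible modules trivial on the generic fibre come from the base
-/

universe u

open CategoryTheory Limits AlgebraicGeometry TopologicalSpace Opposite Order Topology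

noncomputable section

namespace Groth.Agent.FlatPull

open Groth.Agent.Ref1 Groth.Agent.HomShQC Groth.Agent.PullStalk.Sky

variable {X Y : Scheme.{u}}

lemma unitStalkHom_sp (f : X ⟶ Y) (M : Y.Modules) {z x : X} (h : z ⤳ x) (v : M.presheaf.stalk (f x)) :
    sp ((Scheme.Modules.pullback f).obj M) h (PullStalk.Basic.unitStalkHom f M x v) =
      PullStalk.Basic.unitStalkHom f M z (sp M (h.map f.continuous) v) := by
  obtain ⟨U, hU, m, rfl⟩ := exists_germM_eq M (f x) v
  rw [sp_germ, PullStalk.Basic.unitStalkHom_germ, PullStalk.Basic.unitStalkHom_germ, sp_germ]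

/-- The images of a generator generate the stalk of a pullback. -/
lemma span_unitStalkHom (f : X ⟶ Y) (M : Y.Modules) (x : X) {t : M.presheaf.stalk (f x)}
    (ht : ∀ w, ∃ d : Y.presheaf.stalk (f x), d • t = w) (v : ((Scheme.Modules.pullback f).obj M).presheaf.stalk x) :
    ∃ r : X.presheaf.stalk x, r • PullStalk.Basic.unitStalkHom f M x t = v := by
  letI := (f.stalkMap x).hom.toAlgebra
  letI := PullStalk.Basic.moduleOver f M x
  haveI : IsScalarTower (Y.presheaf.stalk (f x)) (X.presheaf.stalk x)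
      (((Scheme.Modules.pullback f).obj M).presheaf.stalk x) :=
    IsScalarTower.of_algebraMap_smul fun _ _ => rfl
  refine (PullStalk.Basic.isBaseChange_unitStalk f M x).inductionOn v _ ⟨0, zero_smul _ _⟩ ?_ ?_ ?_
  · intro w
    obtain ⟨d, rfl⟩ := ht w
    exact ⟨f.stalkMap x d, (PullStalk.Basic.unitStalkHom_smul f M x d t).symm⟩
  · rintro s _ ⟨r, rfl⟩
    exact ⟨s * r, mul_smul _ _ _⟩
  · rintro _ _ ⟨r, rfl⟩ ⟨r', rfl⟩
    exact ⟨r + r', add_smul _ _ _⟩

variable [IsIntegral X] [IsIntegral Y] (φ : X ⟶ Y) [Flat φ] (hfib : ∀ y : Y, IsIntegral (φ.fiber y))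

lemma isGenAt_unique {F : X.Modules} (hF : IsRankOne F) {y : X} {t t' : F.presheaf.stalk y}
    (ht : IsGenAt F y t) (ht' : IsGenAt F y t') : ∃ a : X.presheaf.stalk y, IsUnit a ∧ a • t = t' := by
  obtain ⟨a, ha⟩ := ht.exists_eq t'
  obtain ⟨b, hb⟩ := ht'.exists_eq t
  refine ⟨a, IsUnit.of_mul_eq_one b (toK_injective y ?_), ha⟩
  have h1 : toK y (b * a) • toη F y t = toη F y t := by
    rw [← sp_smul, mul_smul, ha, hb]
  rw [map_one, mul_comm]
  refine sub_eq_zero.mp ((hF.eq_zero_or _ (toη F y t) ?_).resolve_right ht.2)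
  rw [sub_smul, h1, one_smul, sub_self]

lemma isGenAt_of_sp {F : X.Modules} [F.IsQuasicoherent] {U : X.Opens} {e : Fin 1 → Γ(F, U)}
    (he : LFFrame.IsFrame F U e) {z : X} (hz : z ∈ U) (hne : IsRankOne F) : IsGenAt F z (germM F U z hz (e 0)) := by
  have hspan : Submodule.span (X.presheaf.stalk z) {germM F U z hz (e 0)} = ⊤ := by
    refine eq_top_iff.mpr fun v _ => ?_
    obtain ⟨a, rfl⟩ := (he.stalkComb_bijective z hz).2 v
    refine Submodule.mem_span_singleton.mpr ⟨a 0, ?_⟩
    simp [LFFrame.stalkComb, Fintype.linearCombination_apply]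
  refine ⟨hspan, fun h => ?_⟩
  obtain ⟨w, hw⟩ := hne.exists_ne_zero
  obtain ⟨a, v, ha, hv⟩ := exists_smul_eq_toη F z w
  obtain ⟨r, rfl⟩ := Submodule.mem_span_singleton.mp (hspan.ge (Submodule.mem_top (x := v)))
  rw [toη, sp_smul, show sp F (hsp z) (germM F U z hz (e 0)) = 0 from h, smul_zero] at hv
  exact hw ((Ref1.isUnit_of_ne_zero (toK_ne_zero ha)).smul_eq_zero.mp hv.symm)

section Generic

variable (L : X.Modules) (hL : PicF.IsInvertible L)
  (hgen : Nonempty ((Scheme.Modules.pullback (φ.fiberι (genericPoint Y))).obj L ≅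
    Coh.structureModule (φ.fiber (genericPoint Y))))

include hL hgen hfib in
/-- A rational section generating at all points over the generic point. -/
theorem exists_section [IsLocallyNoetherian X] :
    ∃ s : L.presheaf.stalk (genericPoint X), s ≠ 0 ∧
      ∀ z, φ z = genericPoint Y → ∃ t, IsGenAt L z t ∧ toη L z t = s := by
  obtain ⟨i⟩ := hgen
  let j := φ.fiberι (genericPoint Y)
  let F := φ.fiber (genericPoint Y)
  haveI : IsIntegral F := hfib (genericPoint Y)
  have hR := ExtPowSt.isRef1_of_isInvertible hL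
  haveI := hR.1.1
  have hb : ∀ w : F, Function.Bijective (PullStalk.Basic.unitStalkHom j L w) := by
    intro w
    letI := (j.stalkMap w).hom.toAlgebra
    letI := PullStalk.Basic.moduleOver j L w
    haveI : IsScalarTower (X.presheaf.stalk (j w)) (F.presheaf.stalk w)
        (((Scheme.Modules.pullback j).obj L).presheaf.stalk w) :=
      IsScalarTower.of_algebraMap_smul fun _ _ => rfl
    have h := PullStalk.Basic.isBaseChange_unitStalk j L w
    have hs : Function.Surjective (algebraMap (X.presheaf.stalk (j w)) (F.presheaf.stalk w)) :=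
      j.stalkMap_surjective w
    refine ⟨(ClUnit.isBaseChange_injective_iff h hs).mpr fun r hr m => ?_, ClUnit.isBaseChange_surjective h hs⟩
    have hker : r ∈ RingHom.ker (j.stalkMap w).hom := hr
    rw [FlatMor.FibreStalk.ker_stalkMap_fiberι] at hker
    have hη : φ (j w) = genericPoint Y := by
      have : j w ∈ φ ⁻¹' {genericPoint Y} := φ.range_fiberι _ ▸ ⟨w, rfl⟩
      exact this
    have hbot : IsLocalRing.maximalIdeal (Y.presheaf.stalk (φ (j w))) = ⊥ := by
      have key : ∀ y, y = genericPoint Y → IsLocalRing.maximalIdeal (Y.presheaf.stalk y) = ⊥ := by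
        rintro _ rfl
        exact Ref1.maximalIdeal_η
      exact key _ hη
    rw [hbot, Ideal.map_bot, Ideal.mem_bot] at hker
    rw [hker, zero_smul]
  have hi : ∀ w : F, Function.Bijective (RefHull.stalkMapₗ i.hom w) :=
    (isIso_iff_bijective_stalk i.hom).mp inferInstance
  choose t ht using fun w : F => (hb w).2 (Classical.choose ((hi w).2 (HomShQC.unitStalk w 1)))
  have ht' : ∀ w, RefHull.stalkMapₗ i.hom w (PullStalk.Basic.unitStalkHom j L w (t w)) = HomShQC.unitStalk w 1 :=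
    fun w => (congrArg _ (ht w)).trans (Classical.choose_spec ((hi w).2 (HomShQC.unitStalk w 1)))
  have hspan : ∀ w v, ∃ a : X.presheaf.stalk (j w), a • t w = v := by
    intro w v
    obtain ⟨r, hr⟩ := (HomShQC.unitStalk w).surjective (RefHull.stalkMapₗ i.hom w (PullStalk.Basic.unitStalkHom j L w v))
    obtain ⟨a, ha⟩ := j.stalkMap_surjective w r
    refine ⟨a, (hb w).1 ((hi w).1 ?_)⟩
    rw [PullStalk.Basic.unitStalkHom_smul, map_smul, ht', ← hr, ← map_smul, smul_eq_mul, mul_one, ha]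
  have hsp' : ∀ {w' w : F} (h : w' ⤳ w), sp L (h.map j.continuous) (t w) = t w' := by
    intro w' w h
    refine (hb w').1 ((hi w').1 ?_)
    rw [← unitStalkHom_sp j L h, ← sp_stalkMap i.hom h, ht', ht', sp_unitStalk, map_one]
  let g := genericPoint F
  have hgξ : j g = genericPoint X := by
    have hm : genericPoint X ∈ Set.range j := by
      rw [φ.range_fiberι]
      exact map_genericPoint φ
    obtain ⟨w, hw⟩ := hm
    refine ((hsp (j g)).antisymm ?_).eq.symm
    rw [← hw]
    exact ((genericPoint_spec F).specializes trivial).map j.continuous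
  obtain ⟨v, hv⟩ : ∃ v, v = toη L (j g) (t g) := ⟨_, rfl⟩
  have hs : ∀ w, toη L (j w) (t w) = v := fun w => by
    have hg : g ⤳ w := (genericPoint_spec F).specializes trivial
    rw [hv, ← hsp' hg, toη, toη, sp_sp]
  obtain ⟨u₀, hu₀⟩ := (rankOne_of_isRef1 hR).exists_ne_zero
  have hv0 : v ≠ 0 := by
    intro h0
    obtain ⟨a, w', ha, hw'⟩ := exists_smul_eq_toη L (j g) u₀
    obtain ⟨b, rfl⟩ := hspan g w'
    rw [toη, sp_smul, show sp L (hsp (j g)) (t g) = 0 from hv.symm.trans h0, smul_zero] at hw'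
    exact hu₀ ((Ref1.isUnit_of_ne_zero (toK_ne_zero ha)).smul_eq_zero.mp hw'.symm)
  refine ⟨v, hv0, fun z hz => ?_⟩
  obtain ⟨w, rfl⟩ : z ∈ Set.range j := by rw [φ.range_fiberι]; exact hz
  exact ⟨t w, ⟨eq_top_iff.mpr fun x _ => Submodule.mem_span_singleton.mpr (hspan w x), by rw [hs]; exact hv0⟩, hs w⟩

end Generic

variable [IsLocallyNoetherian X] [IsLocallyNoetherian Y] (hY : Pi1.IsNormalScheme Y)

omit [IsLocallyNoetherian Y] in
include hfib in
/-- Generic points of fibres over codimension one points have codimension one. -/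
lemma coheight_fgen {y' : Y} (hy' : coheight y' = 1) [IsDiscreteValuationRing (Y.presheaf.stalk y')] :
    coheight (fgen φ hfib y') = 1 ∧ IsDiscreteValuationRing (X.presheaf.stalk (fgen φ hfib y')) ∧
      ∀ ϖ : Y.presheaf.stalk (φ (fgen φ hfib y')), Irreducible ϖ →
        Irreducible (φ.stalkMap (fgen φ hfib y') ϖ) := by
  set g := fgen φ hfib y' with hgdef
  have hg : φ g = y' := map_fgen φ hfib y'
  haveI : IsDiscreteValuationRing (Y.presheaf.stalk (φ g)) := by rw [hg]; infer_instance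
  have hm : ∀ ϖ : Y.presheaf.stalk (φ g), Irreducible ϖ →
      IsLocalRing.maximalIdeal (X.presheaf.stalk g) = Ideal.span {φ.stalkMap g ϖ} := fun ϖ hϖ => by
    rw [maximalIdeal_fgen φ hfib y', (IsDiscreteValuationRing.irreducible_iff_uniformizer ϖ).mp hϖ,
      Ideal.map_span, Set.image_singleton]
  obtain ⟨ϖ, hϖ⟩ := IsDiscreteValuationRing.exists_irreducible (Y.presheaf.stalk (φ g))
  have hnf : ¬ IsField (X.presheaf.stalk g) := fun hf => by
    rw [IsLocalRing.isField_iff_maximalIdeal_eq, hm ϖ hϖ, Ideal.span_singleton_eq_bot] at hf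
    exact stalkMap_ne_zero φ g hϖ.ne_zero hf
  haveI : IsDiscreteValuationRing (X.presheaf.stalk g) :=
    ((IsDiscreteValuationRing.TFAE (X.presheaf.stalk g) hnf).out 4 0).mp
      (show (IsLocalRing.maximalIdeal (X.presheaf.stalk g)).IsPrincipal from ⟨_, hm ϖ hϖ⟩)
  refine ⟨coheight_eq_one ?_, inferInstance, fun ϖ' hϖ' =>
    (IsDiscreteValuationRing.irreducible_iff_uniformizer _).mpr (hm ϖ' hϖ')⟩
  exact IsPrincipalIdealRing.ringKrullDim_eq_one _ hnf

omit [IsLocallyNoetherian Y] in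
include hfib in
/-- Orders of pulled back rational functions at generic points of fibres. -/
lemma ord_Φ {y' : Y} (hy' : coheight y' = 1) [IsLocallyNoetherian Y] [IsDiscreteValuationRing (Y.presheaf.stalk y')]
    {f : Y.presheaf.stalk (genericPoint Y)} (hf : f ≠ 0) :
    Scheme.ord (Φ φ f) (fgen φ hfib y') = Scheme.ord f y' := by
  obtain ⟨hg1, hgD, hirr⟩ := coheight_fgen φ hfib hy'
  set g := fgen φ hfib y' with hgdef
  have hg : φ g = y' := map_fgen φ hfib y'
  have key : ∀ (z : Y), z = y' → coheight z = 1 ∧ IsDiscreteValuationRing (Y.presheaf.stalk z) ∧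
      Scheme.ord f z = Scheme.ord f y' := by
    rintro _ rfl
    exact ⟨hy', inferInstance, rfl⟩
  obtain ⟨hy1, hyD, hford⟩ := key _ hg
  rw [← hford]
  haveI : Ring.KrullDimLE 1 (X.presheaf.stalk g) := krullDimLE_of_coheight_le hg1.le
  haveI : Ring.KrullDimLE 1 (Y.presheaf.stalk (φ g)) := krullDimLE_of_coheight_le hy1.le
  obtain ⟨ϖ, hϖ⟩ := IsDiscreteValuationRing.exists_irreducible (Y.presheaf.stalk (φ g))
  have main : ∀ a : Y.presheaf.stalk (φ g), a ≠ 0 →
      Scheme.ord (toK g (φ.stalkMap g a)) g = Scheme.ord (toK (φ g) a) (φ g) := by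
    intro a ha
    obtain ⟨n, hn⟩ := IsDiscreteValuationRing.associated_pow_irreducible ha hϖ
    rw [ord_toK hg1 (stalkMap_ne_zero φ g ha), ord_toK hy1 ha, Ring.ord_eq_of_associated hn,
      Ring.ord_eq_of_associated (hn.map (φ.stalkMap g).hom), map_pow,
      Ring.ord_pow (mem_nonZeroDivisors_iff_ne_zero.mpr hϖ.ne_zero),
      Ring.ord_pow (mem_nonZeroDivisors_iff_ne_zero.mpr (stalkMap_ne_zero φ g hϖ.ne_zero)),
      Ring.ord_of_irreducible hϖ, Ring.ord_of_irreducible (hirr ϖ hϖ)]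
  obtain ⟨a, b, hb, hab⟩ := IsFractionRing.div_surjective (A := Y.presheaf.stalk (φ g)) (f : Y.functionField)
  have hb0 : b ≠ 0 := nonZeroDivisors.ne_zero hb
  have hfa : toK (φ g) b * f = toK (φ g) a := by
    rw [toK_eq_algebraMap, toK_eq_algebraMap, ← hab]
    exact mul_div_cancel₀ _ (toK_ne_zero hb0)
  have ha0 : a ≠ 0 := fun h => mul_ne_zero (toK_ne_zero hb0) hf (hfa.trans (by rw [h, map_zero]))
  have h1 := ord_mul' (y := φ g) (toK_ne_zero hb0) hf
  rw [hfa] at h1
  have h2 := congrArg (Φ φ) hfa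
  rw [map_mul, Φ_toK, Φ_toK] at h2
  have h3 := ord_mul' (y := g) (toK_ne_zero (stalkMap_ne_zero φ g hb0)) (isUnit_Φ φ hf).ne_zero
  rw [h2, main a ha0, main b hb0] at h3
  omega

include hfib hY in
/-- Invertible modules trivial on the generic fibre are pulled back from the base. -/
theorem exists_iso_pullback (hφ : QuasiCompact φ ∨ LocallyOfFiniteType φ) (L : X.Modules) (hL : PicF.IsInvertible L)
    (hgen : Nonempty ((Scheme.Modules.pullback (φ.fiberι (genericPoint Y))).obj L ≅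
      Coh.structureModule (φ.fiber (genericPoint Y)))) :
    ∃ N : Y.Modules, PicF.IsInvertible N ∧ Nonempty (L ≅ (Scheme.Modules.pullback φ).obj N) := by
  classical
  obtain ⟨s, hs0, hsgen⟩ := exists_section φ hfib L hL hgen
  have hR := ExtPowSt.isRef1_of_isInvertible hL
  have hrk := rankOne_of_isRef1 hR
  haveI := hR.1.1
  -- local expressions of the section
  have hA : ∀ x, ∃ (t : L.presheaf.stalk x) (f : Y.presheaf.stalk (genericPoint Y)) (u : X.presheaf.stalk x),
      IsGenAt L x t ∧ f ≠ 0 ∧ IsUnit u ∧ s = (toK x u * Φ φ f) • toη L x t ∧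
        ∀ z (h : z ⤳ x), IsGenAt L z (sp L h t) := by
    intro x
    obtain ⟨U, e, hxU, he⟩ := LFDesc.exists_frame_one hL x
    obtain ⟨v, hv⟩ := hrk.exists_smul (isGenAt_of_sp he hxU hrk).2 s
    have hv0 : v ≠ 0 := fun h => hs0 (by rw [hv, h, zero_smul])
    have hsp' : ∀ z (h : z ⤳ x), IsGenAt L z (sp L h (germM L U x hxU (e 0))) := fun z h => by
      rw [sp_germ]
      exact isGenAt_of_sp he (h.mem_open U.2 hxU) hrk
    obtain ⟨f, u, hf, hu, hvf⟩ := exists_factor φ hfib hY x v hv0 fun z hz hzη => by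
      obtain ⟨t', ht', ht's⟩ := hsgen z hzη
      obtain ⟨a, ha, hat⟩ := isGenAt_unique hrk (hsp' z hz) ht'
      refine ⟨a, ha, ?_⟩
      have h1 := congrArg (toη L z) hat
      rw [ht's, hv, toη, sp_smul, sp_sp] at h1
      exact sub_eq_zero.mp ((hrk.eq_zero_or _ _ (by rw [sub_smul, h1, sub_self])).resolve_right
        (isGenAt_of_sp he hxU hrk).2)
    exact ⟨germM L U x hxU (e 0), f, u, isGenAt_of_sp he hxU hrk, hf, hu, by rw [hv, hvf], hsp'⟩
  choose t f u ht hf hu hst hts using hA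
  have hdvr : ∀ {y' : Y}, coheight y' = 1 → IsDiscreteValuationRing (Y.presheaf.stalk y') := fun {y'} h =>
    (VarDim.isDiscreteValuationRing_stalk_of_coheight_eq_one hY y' h).2
  let D : Y → ℤ := fun y' => if coheight y' = 1 then ordS L (fgen φ hfib y') s else 0
  have hD : ∀ (x : X) (y' : Y), y' ⤳ φ x → coheight y' = 1 → D y' = Scheme.ord (f x) y' := by
    intro x y' hy' h1
    haveI := hdvr h1
    obtain ⟨hg1, hgD, -⟩ := coheight_fgen φ hfib h1
    have hgx := fgen_specializes' φ hfib x hy'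
    have hu' : IsUnit (spR hgx (u x)) := (hu x).map _
    show (if coheight y' = 1 then ordS L (fgen φ hfib y') s else 0) = _
    rw [if_pos h1, hst x, show toη L x (t x) = toη L (fgen φ hfib y') (sp L hgx (t x)) from (sp_sp L _ _ _).symm,
      show toK x (u x) = toK (fgen φ hfib y') (spR hgx (u x)) from (spR_spR _ _ _).symm,
      ordS_eq hrk hg1 (hts x _ hgx) (mul_ne_zero (toK_ne_zero hu'.ne_zero) (isUnit_Φ φ (hf x)).ne_zero),
      ord_mul' (toK_ne_zero hu'.ne_zero) (isUnit_Φ φ (hf x)).ne_zero, ord_toK_of_isUnit hg1 hu', zero_add,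
      ord_Φ φ hfib h1 (hf x)]
  have hD1 : ∀ y', coheight y' ≠ 1 → D y' = 0 := fun y' h => if_neg h
  -- local finiteness
  have hDfin : LocallyFiniteSupport D := by
    intro y
    suffices H : ∃ V : Y.Opens, y ∈ V ∧ ∃ W : Set X, IsCompact W ∧ ∀ y' ∈ V, fgen φ hfib y' ∈ W by
      obtain ⟨V, hyV, W, hW, hVW⟩ := H
      choose O hO hOfin using fun z : X => finite_ordS_ne_zero L hR.2.2 hs0 z
      obtain ⟨T, -, hT⟩ := hW.elim_nhds_subcover O fun z _ => hO z
      refine ⟨V, V.2.mem_nhds hyV, ?_⟩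
      have hfin : (⋃ z ∈ T, {g : X | g ∈ O z ∧ coheight g = 1 ∧ ordS L g s ≠ 0}).Finite :=
        T.finite_toSet.biUnion fun z _ => hOfin z
      refine (hfin.image φ).subset ?_
      rintro y' ⟨hy'V, hy'⟩
      have h1 : coheight y' = 1 := by
        by_contra h
        exact hy' (hD1 y' h)
      haveI := hdvr h1
      obtain ⟨z, hzT, hzO⟩ := Set.mem_iUnion₂.mp (hT (hVW y' hy'V))
      refine ⟨fgen φ hfib y', Set.mem_iUnion₂.mpr ⟨z, hzT, hzO, (coheight_fgen φ hfib h1).1, ?_⟩, map_fgen φ hfib y'⟩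
      intro h0
      exact hy' (show (if coheight y' = 1 then ordS L (fgen φ hfib y') s else 0) = 0 by rw [if_pos h1, h0])
    rcases hφ with h | h
    · obtain ⟨V, hyV, -⟩ := IdealSh.Comap.exists_affine_le y ⊤ trivial
      refine ⟨V.1, hyV, (φ ⁻¹ᵁ V.1 : Set X), QuasiCompact.isCompact_preimage (f := φ) _ V.1.2 V.2.isCompact, fun y' hy' => ?_⟩
      show φ (fgen φ hfib y') ∈ V.1
      rw [map_fgen]
      exact hy'
    · haveI := h
      haveI := MonoVal.locallyOfFinitePresentation_of_lft φ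
      obtain ⟨W, hW, -⟩ := IdealSh.Comap.exists_affine_le (fgen φ hfib y) ⊤ trivial
      refine ⟨⟨φ '' W.1, φ.isOpenMap _ W.1.2⟩, ⟨_, hW, map_fgen φ hfib y⟩, (W.1 : Set X), W.2.isCompact, ?_⟩
      rintro y' ⟨z, hz, rfl⟩
      exact (fgen_specializes φ hfib rfl).mem_open W.1.2 hz
  obtain ⟨N, hN, σ, hσ, hσord⟩ := exists_ref1_of_divisor hY D hDfin hD1
  have hrkN := rankOne_of_isRef1 hN
  haveI := hN.1.1
  -- generators of `N`
  have hB : ∀ x : X, ∃ t' : N.presheaf.stalk (φ x), IsGenAt N (φ x) t' ∧ σ = f x • toη N (φ x) t' := by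
    intro x
    obtain ⟨r, hr⟩ := Ref1.isUnit_of_ne_zero (hf x)
    set g₀ := (r⁻¹ : (Y.presheaf.stalk (genericPoint Y))ˣ).1 • σ with hg₀
    have hrinv : (r⁻¹ : (Y.presheaf.stalk (genericPoint Y))ˣ).1 ≠ 0 := Units.ne_zero _
    have hg0 : g₀ ≠ 0 := fun h => hσ (r⁻¹.isUnit.smul_eq_zero.mp h)
    have hord : ∀ y' : Y, y' ⤳ φ x → coheight y' = 1 → ordS N y' g₀ = 0 := by
      intro y' hy' h1
      have e1 := ord_mul' (y := y') hrinv (hf x)
      rw [← hr, Units.inv_mul] at e1
      have e2 := ord_mul' (y := y') (one_ne_zero (α := Y.presheaf.stalk (genericPoint Y))) (one_ne_zero (α := Y.presheaf.stalk (genericPoint Y)))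
      rw [one_mul] at e2
      rw [hg₀, ordS_smul hY hN h1 hσ hrinv, hσord y' h1, hD x y' hy' h1, ← hr]
      omega
    have hcoord : ∀ y' : Y, y' ⤳ φ x → coheight y' = 1 → ∃ (t' : N.presheaf.stalk y') (c : Y.presheaf.stalk y'),
        IsGenAt N y' t' ∧ IsUnit c ∧ g₀ = toK y' c • toη N y' t' := by
      intro y' hy' h1
      haveI := hdvr h1
      obtain ⟨t', a, ht', ha, hga, hoa⟩ := exists_coord hY hN h1 hg0
      obtain ⟨c, hc, hca⟩ := exists_unit_of_ord_eq_zero h1 ha (hoa.symm.trans (hord y' hy' h1))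
      exact ⟨t', c, ht', hc, by rw [hga, hca]⟩
    obtain ⟨t', ht'⟩ := mem_range_of_codim_one hY N hN.1 hN.2.1 (φ x) g₀ fun y' hy' hdim => by
      obtain ⟨t', c, -, -, hg⟩ := hcoord y' hy' (coheight_eq_one hdim)
      exact ⟨c • t', by rw [toη, sp_smul]; exact hg.symm⟩
    refine ⟨t', ⟨eq_top_iff.mpr fun w _ => ?_, by rw [ht']; exact hg0⟩, ?_⟩
    · obtain ⟨a, ha⟩ := hrkN.exists_smul hg0 (toη N (φ x) w)
      obtain ⟨d, hd⟩ := mem_range_toK_of_codim_one hY (φ x) a fun y' hy' hdim => by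
        obtain ⟨t₁, c, ht₁, hc, hg⟩ := hcoord y' hy' (coheight_eq_one hdim)
        obtain ⟨r', hr'⟩ := ht₁.exists_eq (sp N hy' w)
        refine ⟨r' * ↑hc.unit⁻¹, ?_⟩
        have e1 : toK y' r' • toη N y' t₁ = (a * toK y' c) • toη N y' t₁ := by
          rw [← sp_smul, hr', mul_smul, ← hg, ← ha, toη, sp_sp]
        have e2 : toK y' r' = a * toK y' c := sub_eq_zero.mp ((hrkN.eq_zero_or _ _ (by rw [sub_smul, e1, sub_self])).resolve_right ht₁.2)
        rw [map_mul, e2, mul_assoc, ← map_mul, IsUnit.mul_val_inv, map_one, mul_one]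
      refine Submodule.mem_span_singleton.mpr ⟨d, toη_injective_of_isReflexive N hN.1 hN.2.1 (φ x) ?_⟩
      rw [toη, sp_smul, show sp N (hsp (φ x)) t' = g₀ from ht', ha]
      exact congrArg (· • g₀) hd
    · rw [ht', hg₀, smul_smul, ← hr, Units.mul_inv, one_smul]
  choose τ hτ hστ using hB
  have hNinv : PicF.IsInvertible N := by
    refine LFDesc.isInvertible_of_stalks N (fun U hU => (QCoh.isFiniteType_iff N).mp hN.1.2 U hU) fun y => ?_
    obtain ⟨x, rfl⟩ : ∃ x, φ x = y := ⟨_, map_fgen φ hfib y⟩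
    have hb : Function.Bijective (LinearMap.toSpanSingleton (Y.presheaf.stalk (φ x)) (N.presheaf.stalk (φ x)) (τ x)) := by
      refine ⟨?_, fun v => (hτ x).exists_eq v⟩
      rw [injective_iff_map_eq_zero]
      intro a ha
      rw [LinearMap.toSpanSingleton_apply] at ha
      have h : toK (φ x) a • toη N (φ x) (τ x) = 0 := by rw [← sp_smul, ha, map_zero]
      exact toK_injective (φ x) (((hrkN.eq_zero_or _ _ h).resolve_right (hτ x).2).trans (map_zero _).symm)
    exact ⟨Module.Basis.ofEquivFun ((LinearEquiv.ofBijective _ hb).symm.trans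
      (LinearEquiv.funUnique (Fin 1) (Y.presheaf.stalk (φ x)) (Y.presheaf.stalk (φ x))).symm)⟩
  refine ⟨N, hNinv, ?_⟩
  -- the pullback
  set M := (Scheme.Modules.pullback φ).obj N with hM
  have hRM := ExtPowSt.isRef1_of_isInvertible (PicCl.isInvertible_pullback φ hNinv)
  have hrkM := rankOne_of_isRef1 hRM
  let pb0 : N.presheaf.stalk (genericPoint Y) → M.presheaf.stalk (genericPoint X) := fun w =>
    PullStalk.Basic.unitStalkHom φ N (genericPoint X) (sp N (specializes_of_eq (map_genericPoint φ)) w)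
  have hpb : ∀ (x : X) (v : N.presheaf.stalk (φ x)),
      toη M x (PullStalk.Basic.unitStalkHom φ N x v) = pb0 (toη N (φ x) v) := fun x v => by
    simp only [pb0, toη, sp_sp]
    exact unitStalkHom_sp φ N (hsp x) v
  have hpb_smul : ∀ (a : Y.presheaf.stalk (genericPoint Y)) (w : N.presheaf.stalk (genericPoint Y)),
      pb0 (a • w) = Φ φ a • pb0 w := fun a w => by
    simp only [pb0, sp_smul, PullStalk.Basic.unitStalkHom_smul, Φ, RingHom.comp_apply]
  set σ' := pb0 σ
  let p : ∀ x : X, M.presheaf.stalk x := fun x => PullStalk.Basic.unitStalkHom φ N x (τ x)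
  have hσp : ∀ x, σ' = Φ φ (f x) • toη M x (p x) := fun x => by
    show pb0 σ = _
    rw [hστ x, hpb_smul, hpb x]
  have hpspan : ∀ x (v : M.presheaf.stalk x), ∃ r : X.presheaf.stalk x, r • p x = v := fun x v =>
    span_unitStalkHom φ N x (fun w => (hτ x).exists_eq w) v
  haveI := hRM.1.1
  have hσ'0 : σ' ≠ 0 := fun h => by
    obtain ⟨w, hw⟩ := hrkM.exists_ne_zero
    obtain ⟨a, v, ha, hv⟩ := exists_smul_eq_toη M (genericPoint X) w
    obtain ⟨r, rfl⟩ := hpspan _ v
    have hp0 : toη M (genericPoint X) (p (genericPoint X)) = 0 :=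
      (isUnit_Φ φ (hf (genericPoint X))).smul_eq_zero.mp ((hσp _).symm.trans h)
    rw [toη, sp_smul, show sp M (hsp _) (p (genericPoint X)) = 0 from hp0, smul_zero] at hv
    exact hw ((Ref1.isUnit_of_ne_zero (toK_ne_zero ha)).smul_eq_zero.mp hv.symm)
  obtain ⟨T, hT⟩ := hrk.exists_equiv hrkM hs0 hσ'0
  have hTt : ∀ x, toK x (u x) • T (toη L x (t x)) = toη M x (p x) := fun x => by
    have h1 := congrArg T (hst x)
    rw [hT, map_smul, hσp x, mul_comm, mul_smul] at h1
    exact ((isUnit_Φ φ (hf x)).smul_left_cancel.mp h1).symm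
  obtain ⟨ψ, hψ⟩ := exists_hom_of_generic (toη_injective_of_isReflexive M hRM.1 hRM.2.1) T.toLinearMap fun x v => by
    obtain ⟨a, rfl⟩ := (ht x).exists_eq v
    refine ⟨(a * ↑(hu x).unit⁻¹) • p x, ?_⟩
    rw [toη, sp_smul, sp_smul, LinearEquiv.coe_coe, map_smul]
    refine (congrArg (spR (hsp x) (a * ↑(hu x).unit⁻¹) • ·) (hTt x).symm).trans ?_
    rw [smul_smul, toK, ← map_mul, mul_assoc, IsUnit.val_inv_mul, mul_one]
  obtain ⟨χ, hχ⟩ := exists_hom_of_generic (toη_injective_of_isReflexive L hR.1 hR.2.1) T.symm.toLinearMap fun x v => by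
    obtain ⟨a, rfl⟩ := hpspan x v
    refine ⟨(a * u x) • t x, ?_⟩
    rw [toη, sp_smul, sp_smul, LinearEquiv.coe_coe, map_smul]
    refine Eq.trans ?_ (congrArg (spR (hsp x) a • ·) (congrArg T.symm (hTt x)))
    rw [map_smul, LinearEquiv.symm_apply_apply, smul_smul, toK, ← map_mul]
  refine ⟨⟨ψ, χ, hom_ext_η (toη_injective_of_isReflexive L hR.1 hR.2.1) ?_,
    hom_ext_η (toη_injective_of_isReflexive M hRM.1 hRM.2.1) ?_⟩⟩
  · rw [RefFun.stalkMapₗ_comp, hψ, hχ, RefFun.stalkMapₗ_id]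
    exact T.symm_comp
  · rw [RefFun.stalkMapₗ_comp, hψ, hχ, RefFun.stalkMapₗ_id]
    exact T.comp_symm

end Groth.Agent.FlatPull

end
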